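import Cfsg.Agent.R2.Spec.SmallU.Main

/-!
# SMALLU (S3435, helper28): the packet

* `small_u` : the case of the packet `SMALLU` (the second class is not isolated in `S`);
* `small_iid` : the exotic family `ExoIID`.
-/

set_option autoImplicit false

namespace Cfsg.Agent.R2.Spec.SmallU

open Cfsg.Agent.H426.LieFam Cfsg.Agent.R2.Spec Cfsg.Agent.R2.Spec.P1 Cfsg.Agent.R2.Spec.F1 Cfsg.Agent.R2.Spec.E
open Cfsg.Agent.H420.QR

universe w

section

variable {t : Fam} {p f : ℕ} {L : Type w} [Group L] [Finite L] {G : Type} [Group G] [Finite G]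
variable {K : Subgroup G} [K.Normal] {S : Subgroup (G ⧸ K)} [S.Normal]
variable {t' : Fam} {v f' : ℕ}

/-- **SMALLU**: `L` of type II, `u = 2, 3`, the second class is not isolated. -/
theorem small_u (h : LS t p f L G) (hR : Red G K S) (hF : Frm G K S t' v f') (hn : 5 ≤ rk t)
    (hII : FamII t) (hu : v ^ f' = 2 ∨ v ^ f' = 3) {i j i' j' w H : ℕ} (hD : Duel t p f i j t' v f' i' j' w H S)
    (hj' : ¬ top t' j') : False := by
  have hf1 := fprime_one hF.prime hF.f_ne hu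
  obtain ⟨hH, hl⟩ := hD.H_dvd hj'
  rw [hf1, mul_one] at hH
  rw [hf1] at hl
  refine small_core h hR hF hD.big hn hII hD.p_ne hD.vp hu hD.pair hD.topi' hD.eqM hH ?_ fun h1 => Nat.dvd_one.1 (hl h1)
  intro h2
  have hv : v = 2 := by rw [hf1, pow_one] at h2; exact h2
  have h3 := hD.not_dvd_H hj' hF.prime (Or.inl rfl) (Or.inl rfl)
  rw [hv] at h3
  have h4 := Nat.le_of_dvd (by norm_num) hH
  have h5 : H = 0 ∨ H = 1 ∨ H = 2 ∨ H = 3 ∨ H = 4 ∨ H = 5 ∨ H = 6 ∨ H = 7 ∨ H = 8 := by omega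
  rcases h5 with rfl | rfl | rfl | rfl | rfl | rfl | rfl | rfl | rfl <;> omega

/-- **The exotic family `ExoIID`.** -/
theorem small_iid (h : LS t p f L G) (hR : Red G K S) (hF : Frm G K S t' v f') (hS : BigS t') (hn : 5 ≤ rk t)
    (hp2 : p ≠ 2) (hvp : v ≠ p) {i j i' j' H H' : ℕ} (hij : PairOK t i j) (hi' : top t' i')
    (hM : ttor t (p ^ f) i = H * ttor t' (v ^ f') i') (hE : ExoIID t t' (v ^ f') i' j' H H') : False := by
  obtain ⟨m, hII, rfl, hu, -, -, hH, -⟩ := hE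
  refine small_core h hR hF hS hn hII hp2 hvp hu hij hi' hM ?_ ?_ ?_
  · rcases hu with hu | hu
    · rw [hH, hu]; norm_num
    · rw [hH, hu]; norm_num
  · intro h2
    rw [hH, h2]
  · rintro ⟨k, hk | hk⟩ <;> cases hk

end

end Cfsg.Agent.R2.Spec.SmallU
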