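import Cfsg.Agent.R2.Spec.E.Exo
import Cfsg.Agent.R2.Spec.F1.Comb

/-!
# SMALLU (S3435, helper28): the cocliques of `L` (type II), the big classes of `S`
-/

set_option autoImplicit false

namespace Cfsg.Agent.R2.Spec.SmallU

open Finset
open Cfsg.Agent.H426.LieFam Cfsg.Agent.R2.Spec Cfsg.Agent.R2.Spec.P1 Cfsg.Agent.R2.Spec.F1 Cfsg.Agent.R2.Spec.E

/-- the odd numbers `a < i ≤ b` -/
def odds (a b : ℕ) : Finset ℕ := (Ioc ((a + 1) / 2) ((b + 1) / 2)).image fun k => 2 * k - 1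

/-- the even numbers `2 k`, `a < k ≤ b` -/
def evens (a b : ℕ) : Finset ℕ := (Ioc a b).image fun k => 2 * k

theorem card_odds (a b : ℕ) : (odds a b).card = (b + 1) / 2 - (a + 1) / 2 := by
  rw [odds, Finset.card_image_of_injOn, Nat.card_Ioc]
  intro x hx y hy h
  rw [Finset.coe_Ioc, Set.mem_Ioc] at hx hy
  simp only at h
  omega

theorem card_evens (a b : ℕ) : (evens a b).card = b - a := by
  rw [evens, Finset.card_image_of_injOn, Nat.card_Ioc]
  intro x hx y hy h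
  simp only at h
  omega

theorem mem_odds {a b i : ℕ} : i ∈ odds a b ↔ i % 2 = 1 ∧ a < i ∧ i ≤ b := by
  rw [odds, Finset.mem_image]
  constructor
  · rintro ⟨k, hk, rfl⟩
    rw [Finset.mem_Ioc] at hk
    omega
  · intro h
    exact ⟨(i + 1) / 2, by rw [Finset.mem_Ioc]; omega, by omega⟩

theorem mem_evens {a b i : ℕ} : i ∈ evens a b ↔ i % 2 = 0 ∧ a < i / 2 ∧ i / 2 ≤ b := by
  rw [evens, Finset.mem_image]
  constructor
  · rintro ⟨k, hk, rfl⟩
    rw [Finset.mem_Ioc] at hk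
    omega
  · intro h
    exact ⟨i / 2, by rw [Finset.mem_Ioc]; omega, by omega⟩

theorem eta_eq (i : ℕ) : eta i = if i % 2 = 0 then i / 2 else i := rfl

/-- the classes with `a < eta i ≤ b` -/
def cl (a b : ℕ) : Finset ℕ := evens a b ∪ odds a b

theorem card_cl (a b : ℕ) : (cl a b).card = (b - a) + ((b + 1) / 2 - (a + 1) / 2) := by
  rw [cl, Finset.card_union_of_disjoint, card_evens, card_odds]
  rw [Finset.disjoint_left]
  intro x hx hy
  rw [mem_evens] at hx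
  rw [mem_odds] at hy
  omega

theorem mem_cl {a b i : ℕ} : i ∈ cl a b ↔ a < eta i ∧ eta i ≤ b := by
  rw [cl, Finset.mem_union, mem_evens, mem_odds, eta_eq]
  split_ifs with h
  · constructor
    · rintro (h1 | h1) <;> omega
    · intro h1; left; omega
  · constructor
    · rintro (h1 | h1) <;> omega
    · intro h1; right; omega

/-- **The cocliques of `L`.** -/
theorem coq_le {t : Fam} (ht : FamII t) {Y : Finset ℕ} (h1 : ∀ j ∈ Y, 3 ≤ j ∧ mem t j)
    (h2 : ∀ j ∈ Y, ∀ k ∈ Y, j ≠ k → na t j k) : 4 * Y.card ≤ 3 * dimL t + 9 := by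
  classical
  -- the general bound
  have key : ∀ n n0 : ℕ, (∀ j ∈ Y, eta j ≤ n0) →
      (∀ j ∈ Y, ∀ k ∈ Y, 2 * eta j ≤ n → 2 * eta k ≤ n → j = k) →
      Y.card ≤ (cl (n / 2) n0).card + 1 := by
    intro n n0 hle hsm
    have h3 : (Y.filter fun j => ¬ 2 * eta j ≤ n) ⊆ cl (n / 2) n0 := by
      intro j hj
      rw [Finset.mem_filter] at hj
      rw [mem_cl]
      have := hle j hj.1
      omega
    have h4 : (Y.filter fun j => 2 * eta j ≤ n).card ≤ 1 := by
      rw [Finset.card_le_one]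
      intro a ha b hb
      rw [Finset.mem_filter] at ha hb
      exact hsm a ha.1 b hb.1 ha.2 hb.2
    have h5 := Finset.card_filter_add_card_filter_not (s := Y) (fun j => 2 * eta j ≤ n)
    have h6 := Finset.card_le_card h3
    omega
  cases t with
  | psp n =>
    have hodd : n % 2 = 1 := ht
    have h3 := key n n (fun j hj => (h1 j hj).2) (by
      intro j hj k hk hj2 hk2
      by_contra hne
      have h4 : n < eta j + eta k := (h2 j hj k hk hne).1
      omega)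
    rw [card_cl] at h3
    change 4 * Y.card ≤ 3 * n + 9
    omega
  | oodd n =>
    have hodd : n % 2 = 1 := ht
    have h3 := key n n (fun j hj => (h1 j hj).2) (by
      intro j hj k hk hj2 hk2
      by_contra hne
      have h4 : n < eta j + eta k := (h2 j hj k hk hne).1
      omega)
    rw [card_cl] at h3
    change 4 * Y.card ≤ 3 * n + 9
    omega
  | oplus n =>
    have hev : n % 2 = 0 := ht
    have h3 := key n (n - 1) (fun j hj => by
        have h4 : eta j + 1 ≤ n ∨ (j = n ∧ n % 2 = 1) := (h1 j hj).2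
        omega) (by
      intro j hj k hk hj2 hk2
      by_contra hne
      obtain ⟨h4, -, -, h5, h6⟩ := h2 j hj k hk hne
      have hj3 := (h1 j hj).1
      rw [eta_eq] at hj2 h4
      rw [eta_eq] at hk2 h4
      split_ifs at * <;> omega)
    rw [card_cl] at h3
    have hd : dimL (.oplus n) = n - 1 := by
      change (if n % 2 = 0 then n - 1 else n) = n - 1
      rw [if_pos hev]
    rw [hd]
    omega
  | _ => exact ht.elim

/-- **The big classes of `S`.** -/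
theorem exists_big {t : Fam} (ht : Classical t) (hm : 14 ≤ rk t) : ∃ B : Finset ℕ, (∀ i ∈ B, Big t i ∧ 7 ≤ i) ∧
    2 * rk t ≤ 4 * B.card ∧ ((∃ m, t = .psl m ∨ t = .psu m) ∨ 3 * rk t ≤ 4 * B.card + 6) := by
  have hcl : ∀ m : ℕ, 14 ≤ m → 2 * m ≤ 4 * (cl (m / 2) (m - 1)).card ∧ 3 * m ≤ 4 * (cl (m / 2) (m - 1)).card + 6 ∧
      ∀ i ∈ cl (m / 2) (m - 1), 7 ≤ i ∧ m < 2 * eta i ∧ eta i + 1 ≤ m := by
    intro m hm
    rw [card_cl]
    refine ⟨by omega, by omega, fun i hi => ?_⟩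
    rw [mem_cl] at hi
    have h3 : eta i ≤ i := by rw [eta_eq]; split_ifs <;> omega
    omega
  have hioc : ∀ m : ℕ, 14 ≤ m → 2 * m ≤ 4 * (Ioc (m / 2) m).card ∧ ∀ i ∈ Ioc (m / 2) m, 7 ≤ i ∧ m < 2 * i ∧ i ≤ m := by
    intro m hm
    rw [Nat.card_Ioc]
    refine ⟨by omega, fun i hi => ?_⟩
    rw [Finset.mem_Ioc] at hi
    omega
  cases t with
  | psl m =>
    obtain ⟨h1, h2⟩ := hioc m hm
    exact ⟨Ioc (m / 2) m, fun i hi => ⟨⟨by have := (h2 i hi).1; omega, (h2 i hi).2.2, (h2 i hi).2.1⟩, (h2 i hi).1⟩, h1,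
      Or.inl ⟨m, Or.inl rfl⟩⟩
  | psu m =>
    obtain ⟨h1, h2⟩ := hioc m hm
    exact ⟨Ioc (m / 2) m, fun i hi => ⟨⟨by have := (h2 i hi).1; omega, (h2 i hi).2.2, (h2 i hi).2.1⟩, (h2 i hi).1⟩, h1,
      Or.inl ⟨m, Or.inr rfl⟩⟩
  | psp m =>
    obtain ⟨h1, h2, h3⟩ := hcl m hm
    exact ⟨_, fun i hi => ⟨⟨by have := (h3 i hi).1; omega, by have := (h3 i hi).2.2; show eta i ≤ m; omega, (h3 i hi).2.1⟩,
      (h3 i hi).1⟩, h1, Or.inr h2⟩
  | oodd m =>
    obtain ⟨h1, h2, h3⟩ := hcl m hm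
    exact ⟨_, fun i hi => ⟨⟨by have := (h3 i hi).1; omega, by have := (h3 i hi).2.2; show eta i ≤ m; omega, (h3 i hi).2.1⟩,
      (h3 i hi).1⟩, h1, Or.inr h2⟩
  | oplus m =>
    obtain ⟨h1, h2, h3⟩ := hcl m hm
    exact ⟨_, fun i hi => ⟨⟨by have := (h3 i hi).1; omega, Or.inl (h3 i hi).2.2, (h3 i hi).2.1⟩,
      (h3 i hi).1⟩, h1, Or.inr h2⟩
  | ominus m =>
    obtain ⟨h1, h2, h3⟩ := hcl m hm
    exact ⟨_, fun i hi => ⟨⟨by have := (h3 i hi).1; omega, Or.inl (h3 i hi).2.2, (h3 i hi).2.1⟩,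
      (h3 i hi).1⟩, h1, Or.inr h2⟩
  | _ => exact ht.elim

end Cfsg.Agent.R2.Spec.SmallU
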