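import Cfsg.Agent.R2.Spec.SmallU.Clq
import Cfsg.Agent.R2.Spec.F1.Tame

/-!
# SMALLU (S3435, helper28): counting the tame primes
-/

set_option autoImplicit false

namespace Cfsg.Agent.R2.Spec.SmallU

open Finset
open Cfsg.Agent.H426.LieFam Cfsg.Agent.R2.Spec Cfsg.Agent.R2.Spec.P1 Cfsg.Agent.R2.Spec.F1 Cfsg.Agent.R2.Spec.E
open Cfsg.Agent.H420.QR

universe u w

variable {t : Fam} {p f : ℕ} {L : Type w} [Group L] [Finite L] {G : Type u} [Group G] [Finite G]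
variable {K : Subgroup G} [K.Normal] {S : Subgroup (G ⧸ K)} [S.Normal]
variable {t' : Fam} {v f' : ℕ}

theorem wt_le (t : Fam) (i : ℕ) : wt t i ≤ i := by
  have h : eta i ≤ i := by rw [eta_eq]; split_ifs <;> omega
  cases t with
  | psl n => exact le_rfl
  | psu n => exact le_rfl
  | _ => exact h

/-- **Counting.** `b` is a lower bound for the primes of the big classes. -/
theorem count (h : LS t p f L G) (hR : Red G K S) (hF : Frm G K S t' v f') (hS : BigS t') (hn : 5 ≤ rk t)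
    (hq : 3 ≤ p ^ f) (hII : FamII t) (hu : 2 ≤ v ^ f') (hf1 : f' = 1) {B : Finset ℕ}
    (hB : ∀ i ∈ B, Big t' i ∧ 7 ≤ i) {b : ℕ} (hb : 2 * b ≤ rk t' + 2) :
    ∃ k, b ^ k < (p ^ f) ^ 3 ∧ 4 * B.card ≤ 3 * dimL t + 9 + 4 * k := by
  classical
  have hex : ∀ i : ℕ, ∃ r : ℕ, i ∈ B → r.Prime ∧ cls t' (v ^ f') r = i := by
    intro i
    by_cases hi : i ∈ B
    · obtain ⟨r, hr⟩ := exists_cls (t := t') (q := v ^ f') (i := i) hu (hB i hi).1.1 (fun _ => by have := (hB i hi).2; omega)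
      exact ⟨r, fun _ => hr⟩
    · exact ⟨0, fun h => absurd h hi⟩
  choose r hr using hex
  set X := B.image r with hX
  have hXc : X.card = B.card := by
    apply Finset.card_image_of_injOn
    intro i hi j hj hij
    rw [← (hr i hi).2, ← (hr j hj).2, hij]
  have hA := adjFacts hF.cla hF.prime hF.is
  -- the facts on the elements of `X`
  have hXf : ∀ s ∈ X, s.Prime ∧ Big t' (cls t' (v ^ f') s) ∧ b ≤ s ∧ s ∣ Nat.card S ∧ 5 ≤ s ∧ ¬ s ∣ v ^ f' := by
    intro s hs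
    obtain ⟨i, hi, rfl⟩ := Finset.mem_image.1 hs
    obtain ⟨h1, h2⟩ := hr i hi
    have hbig := (hB i hi).1
    have h3 : 3 ≤ cls t' (v ^ f') (r i) := by rw [h2]; exact hbig.1
    obtain ⟨h5, h6, h7⟩ := cls_facts h1 h3
    refine ⟨h1, by rw [h2]; exact hbig, ?_, ?_, h5, h6⟩
    · rw [h2] at h7
      have h8 := wt_le t' i
      have h9 := hbig.2.2
      omega
    · refine (hA.dvd (r i) h1 (by omega) (fun hd => h6 (hd.trans (dvd_pow_self v hF.f_ne))) h3).2 ?_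
      rw [h2]
      exact hbig.2.1
  have hXna : ∀ s ∈ X, ∀ z ∈ X, s ≠ z → ¬ ∃ g : S, orderOf g = s * z := by
    intro s hs z hz hsz
    obtain ⟨h1, h2, h3, h4, h5, h6⟩ := hXf s hs
    obtain ⟨k1, k2, k3, k4, k5, k6⟩ := hXf z hz
    rw [hF.na_of h1 k1 hsz h2.1 k2.1 h4 k4, not_not]
    refine na_of_big hF.cla h2 k2 ?_
    obtain ⟨i, hi, rfl⟩ := Finset.mem_image.1 hs
    obtain ⟨j, hj, rfl⟩ := Finset.mem_image.1 hz
    rw [(hr i hi).2, (hr j hj).2]
    rintro rfl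
    exact hsz rfl
  -- tame and wild primes
  set Xt := X.filter fun s => 3 ≤ cls t (p ^ f) s with hXt
  set Xw := X.filter fun s => ¬ 3 ≤ cls t (p ^ f) s with hXw
  have hsplit : Xt.card + Xw.card = X.card := Finset.card_filter_add_card_filter_not _
  obtain ⟨h1, h2, h3⟩ := h.tame_coq hR hF hS hn hq (X := Xt) (by
      intro s hs
      obtain ⟨hs1, hs2⟩ := Finset.mem_filter.1 hs
      obtain ⟨k1, k2, k3, k4, k5, k6⟩ := hXf s hs1
      exact ⟨k1, k4, k2.1, by rw [hf1]; intro hd; exact k1.one_lt.ne' (Nat.dvd_one.1 hd), hs2⟩) (by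
      intro s hs z hz hsz
      exact hXna s (Finset.mem_filter.1 hs).1 z (Finset.mem_filter.1 hz).1 hsz)
  have h4 := coq_le hII h2 h3
  rw [h1] at h4
  refine ⟨Xw.card, ?_, by omega⟩
  -- the product of the wild primes
  have hpq : p ≤ p ^ f := Nat.le_self_pow (by have := h.fpos; omega) p
  have hdiv : ∏ s ∈ Xw, s ∣ p * ((p ^ f) ^ 2 - 1) := by
    apply Finset.prod_primes_dvd
    · intro s hs
      exact (hXf s (Finset.mem_filter.1 hs).1).1.prime
    · intro s hs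
      obtain ⟨hs1, hs2⟩ := Finset.mem_filter.1 hs
      obtain ⟨k1, k2, k3, k4, k5, k6⟩ := hXf s hs1
      by_cases hsq : s ∣ p ^ f
      · exact (k1.dvd_of_dvd_pow hsq).mul_right _
      · exact (dvd_sq_of_cls (t := t) (by omega) k1 hsq (by omega)).mul_left _
  have hsq : 1 ≤ (p ^ f) ^ 2 := Nat.one_le_pow _ _ (by omega)
  have hsq2 : 3 ^ 2 ≤ (p ^ f) ^ 2 := Nat.pow_le_pow_left hq 2
  have hp1 := h.prime.pos
  calc b ^ Xw.card ≤ ∏ s ∈ Xw, s := Finset.pow_card_le_prod _ _ _ fun s hs => (hXf s (Finset.mem_filter.1 hs).1).2.2.1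
    _ ≤ p * ((p ^ f) ^ 2 - 1) := Nat.le_of_dvd (Nat.mul_pos hp1 (by norm_num at hsq2; omega)) hdiv
    _ < p * (p ^ f) ^ 2 := Nat.mul_lt_mul_of_pos_left (by omega) hp1
    _ ≤ p ^ f * (p ^ f) ^ 2 := Nat.mul_le_mul_right _ hpq
    _ = (p ^ f) ^ 3 := by ring

end Cfsg.Agent.R2.Spec.SmallU
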