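import Cfsg.Agent.R2.Spec.P1.TopDef

/-!
# SMALLU (S3435, helper28): perfect powers, finite check

`2 H P ± 1` is not a perfect power with odd exponent `≥ 5` for the isolated numbers `P` of the classical groups over the fields with two
or three elements of small rank.
-/

set_option autoImplicit false

namespace Cfsg.Agent.R2.Spec.SmallU

open Cfsg.Agent.H426.LieFam Cfsg.Agent.R2.Spec Cfsg.Agent.R2.Spec.P1

/-- bisection -/
def bis (V k : ℕ) : ℕ → ℕ → ℕ → ℕ
  | 0, lo, _ => lo
  | n + 1, lo, hi => bif Nat.ble (((lo + hi) / 2) ^ k) V then bis V k n ((lo + hi) / 2) hi else bis V k n lo ((lo + hi) / 2)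

/-- a root -/
def root (V k : ℕ) : ℕ := bis V k (Nat.log2 V / k + 1) (2 ^ (Nat.log2 V / k)) (2 ^ (Nat.log2 V / k + 1))

/-- `y ^ k < V < (y + 1) ^ k` -/
def chk (V k y : ℕ) : Bool := Nat.blt (y ^ k) V && Nat.blt V ((y + 1) ^ k)

/-- `V` is not a power with odd exponent `≥ 5` of a number `≥ 3` -/
def noPow (V : ℕ) : Bool :=
  Nat.blt V 243 || (List.range (Nat.log2 V / 3 + 1)).all fun j => chk V (2 * j + 5) (root V (2 * j + 5))

theorem chk_sound {V k y x : ℕ} (h : chk V k y = true) (hx : x ^ k = V) : False := by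
  rw [chk, Bool.and_eq_true, Nat.blt_eq, Nat.blt_eq, ← hx] at h
  have h1 := lt_of_pow_lt_pow_left₀ k (Nat.zero_le _) h.1
  have h2 := lt_of_pow_lt_pow_left₀ k (Nat.zero_le _) h.2
  omega

theorem noPow_sound {V k x : ℕ} (h : noPow V = true) (hk : 5 ≤ k) (hodd : k % 2 = 1) (hx : 3 ≤ x) (hV : x ^ k = V) : False := by
  obtain ⟨j, rfl⟩ : ∃ j, k = 2 * j + 5 := ⟨(k - 5) / 2, by omega⟩
  have h1 : 3 ^ (2 * j + 5) ≤ V := by
    rw [← hV]
    exact Nat.pow_le_pow_left hx _
  rw [noPow, Bool.or_eq_true, Nat.blt_eq, List.all_eq_true] at h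
  have h5 : 3 ^ 5 ≤ 3 ^ (2 * j + 5) := Nat.pow_le_pow_right (by norm_num) (by omega)
  rcases h with h | h
  · norm_num at h5
    omega
  refine chk_sound (h j ?_) hV
  rw [List.mem_range]
  have hV0 : V ≠ 0 := by
    have : 0 < 3 ^ (2 * j + 5) := by positivity
    omega
  have h2 : V < 2 ^ (Nat.log2 V + 1) := Nat.lt_log2_self
  have h3 : 2 ^ (3 * (2 * j + 5)) < 2 ^ (2 * (Nat.log2 V + 1)) := by
    calc 2 ^ (3 * (2 * j + 5)) = 8 ^ (2 * j + 5) := by rw [pow_mul]; norm_num
      _ < 9 ^ (2 * j + 5) := Nat.pow_lt_pow_left (by norm_num) (by omega)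
      _ = (3 ^ (2 * j + 5)) ^ 2 := by rw [← pow_mul, mul_comm (2 * j + 5) 2, pow_mul]; norm_num
      _ ≤ V ^ 2 := Nat.pow_le_pow_left h1 2
      _ < (2 ^ (Nat.log2 V + 1)) ^ 2 := Nat.pow_lt_pow_left h2 (by norm_num)
      _ = _ := by rw [← pow_mul, mul_comm]
  have h4 := (Nat.pow_lt_pow_iff_right (by norm_num)).1 h3
  omega

/-- the isolated numbers of rank `m` -/
def nums (u m : ℕ) : List ℕ :=
  [ttor (.psl m) u m, ttor (.psl m) u (m - 1), ttor (.psu m) u m, ttor (.psu m) u (m - 1), ttor (.psp m) u (2 * m),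
    ttor (.psp m) u m, ttor (.oplus m) u m, ttor (.oplus m) u (m - 1), ttor (.oplus m) u (2 * (m - 1)),
    ttor (.ominus m) u (2 * m), ttor (.ominus m) u (m - 1), ttor (.ominus m) u (2 * (m - 1))]

/-- `V` is divisible by `u` or not a power -/
def ok (u V : ℕ) : Bool := Nat.beq (V % u) 0 || noPow V

theorem ok_sound {u V k x : ℕ} (hu : u.Prime) (h : ok u V = true) (hk : 5 ≤ k) (hodd : k % 2 = 1) (hx : 3 ≤ x)
    (hxu : ¬ u ∣ x) (hV : x ^ k = V) : False := by
  rw [ok, Bool.or_eq_true, Nat.beq_eq] at h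
  rcases h with h | h
  · exact hxu (hu.dvd_of_dvd_pow (hV ▸ Nat.dvd_of_mod_eq_zero h))
  · exact noPow_sound h hk hodd hx hV

def good (u m H : ℕ) : Bool := (nums u m).all fun P => ok u (2 * (H * P) + 1) && ok u (2 * (H * P) - 1)

theorem good_two : (List.range 61).all (fun m => good 2 (m + 3) 1) = true := by decide +kernel

theorem good_three_1 : (List.range 61).all (fun m => good 3 (m + 3) 1) = true := by decide +kernel

theorem good_three_2 : (List.range 61).all (fun m => good 3 (m + 3) 2) = true := by decide +kernel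

theorem good_three_4 : (List.range 61).all (fun m => good 3 (m + 3) 4) = true := by decide +kernel

theorem good_three_8 : (List.range 61).all (fun m => good 3 (m + 3) 8) = true := by decide +kernel

theorem good_of {u m H : ℕ} (hu : u = 2 ∨ u = 3) (hm : 3 ≤ m) (hm2 : m < 64) (hH : H ∣ 8) (h1 : u = 2 → H = 1) :
    good u m H = true := by
  have key : ∀ {u H : ℕ}, (List.range 61).all (fun m => good u (m + 3) H) = true → good u m H = true := by
    intro u H h
    rw [List.all_eq_true] at h
    have := h (m - 3) (by rw [List.mem_range]; omega)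
    rwa [show m - 3 + 3 = m by omega] at this
  have hH8 : H = 1 ∨ H = 2 ∨ H = 4 ∨ H = 8 := by
    have h2 : H ∈ Nat.divisors 8 := Nat.mem_divisors.2 ⟨hH, by norm_num⟩
    have h3 : Nat.divisors 8 = {1, 2, 4, 8} := by decide +kernel
    rw [h3] at h2
    simpa using h2
  rcases hu with rfl | rfl
  · rw [h1 rfl]
    exact key good_two
  · rcases hH8 with rfl | rfl | rfl | rfl
    · exact key good_three_1
    · exact key good_three_2
    · exact key good_three_4
    · exact key good_three_8

theorem ttor_mem_nums {t : Fam} {i u : ℕ} (ht : top t i) : ttor t u i ∈ nums u (rk t) := by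
  cases t with
  | psl n =>
    rcases ht.2 with h | h
    · subst h; simp [nums, rk]
    · obtain rfl : i = n - 1 := by omega
      simp [nums, rk]
  | psu n =>
    rcases ht.2 with h | h
    · subst h; simp [nums, rk]
    · obtain rfl : i = n - 1 := by omega
      simp [nums, rk]
  | psp n =>
    rcases ht with h | h
    · subst h; simp [nums, rk]
    · obtain rfl := h.1
      simp [nums, rk]
  | oodd n =>
    have e : ∀ i, ttor (.oodd n) u i = ttor (.psp n) u i := fun i => rfl
    rw [e]
    rcases ht with h | h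
    · subst h; simp [nums, rk]
    · obtain rfl := h.1
      simp [nums, rk]
  | oplus n =>
    rcases ht with h | h | h
    · obtain rfl := h.1
      simp [nums, rk]
    · subst h; simp [nums, rk]
    · obtain rfl := h.1
      simp [nums, rk]
  | ominus n =>
    rcases ht with h | h | h
    · subst h; simp [nums, rk]
    · subst h; simp [nums, rk]
    · obtain rfl := h.1
      simp [nums, rk]
  | _ => exact ht.elim

/-- **No power of small rank.** -/
theorem small_rank {t : Fam} {i u H x k : ℕ} (hu : u = 2 ∨ u = 3) (hm : 3 ≤ rk t) (hm2 : rk t < 64) (hH : H ∣ 8)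
    (h1 : u = 2 → H = 1) (ht : top t i) (hk : 5 ≤ k) (hodd : k % 2 = 1) (hx : 3 ≤ x) (hxu : ¬ u ∣ x)
    (hV : x ^ k = 2 * (H * ttor t u i) + 1 ∨ x ^ k + 1 = 2 * (H * ttor t u i)) : False := by
  have h2 := good_of hu hm hm2 hH h1
  rw [good, List.all_eq_true] at h2
  have h3 := h2 _ (ttor_mem_nums ht)
  rw [Bool.and_eq_true] at h3
  have hup : u.Prime := by rcases hu with rfl | rfl <;> norm_num
  rcases hV with hV | hV
  · exact ok_sound hup h3.1 hk hodd hx hxu hV
  · exact ok_sound hup h3.2 hk hodd hx hxu (by omega)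

end Cfsg.Agent.R2.Spec.SmallU
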