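import Cfsg.Agent.R2.Spec.SmallU.Cnt
import Cfsg.Agent.R2.Spec.SmallU.Num
import Cfsg.Agent.R2.Spec.SmallU.Mod
import Cfsg.Agent.R2.Spec.E.HOdd

/-!
# SMALLU (S3435, helper28): `L` of type II, `S` over the field with two or three elements

`small_core` : `L` of type II, `S` classical over the field with `u = 2, 3` elements, `M = H P`, `H ∣ 8` (`H = 1` if `u = 2` or `S` linear or
unitary): impossible. `small_u` : the case of the packet `SMALLU`; `exoIID` : the exotic family `ExoIID`.
-/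

set_option autoImplicit false

namespace Cfsg.Agent.R2.Spec.SmallU

open Cfsg.Agent.H426.LieFam Cfsg.Agent.R2.Spec Cfsg.Agent.R2.Spec.P1 Cfsg.Agent.R2.Spec.F1 Cfsg.Agent.R2.Spec.E
open Cfsg.Agent.H420.QR

theorem gcd_two_odd {q : ℕ} (hodd : q % 2 = 1) : Nat.gcd 2 (q - 1) = 2 := by
  apply Nat.gcd_eq_left
  omega

/-- **The isolated numbers of type II.** -/
theorem pow_two_ttor {t : Fam} {q i j : ℕ} (ht : FamII t) (hn : 4 ≤ rk t) (hq : 2 ≤ q) (hodd : q % 2 = 1)
    (h : PairOK t i j) : q ^ dimL t = 2 * ttor t q i + 1 ∨ q ^ dimL t + 1 = 2 * ttor t q i := by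
  have key : ∀ n : ℕ, 1 ≤ n → q ^ n + 1 = 2 * ttor (.psp n) q (2 * n) ∧ q ^ n = 2 * ttor (.psp n) q n + 1 := by
    intro n hn
    obtain ⟨h1, h2⟩ := val_psp (n := n) (q := q) hn hq
    rw [gcd_two_odd hodd] at h1 h2
    have := Nat.one_le_pow n q (by omega)
    omega
  cases t with
  | psp n =>
    have hn4 : 4 ≤ n := hn
    obtain ⟨h1, h2⟩ := key n (by omega)
    rcases h.2 with ⟨rfl, -⟩ | ⟨rfl, -⟩
    · exact Or.inl h2
    · exact Or.inr h1
  | oodd n =>
    have hn4 : 4 ≤ n := hn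
    obtain ⟨h1, h2⟩ := key n (by omega)
    rcases h.2 with ⟨rfl, -⟩ | ⟨rfl, -⟩
    · exact Or.inl h2
    · exact Or.inr h1
  | oplus n =>
    have hn4 : 4 ≤ n := hn
    have hev : n % 2 = 0 := ht
    obtain ⟨h1, h2⟩ := val_oplus_even (n := n) (q := q) hn4 hev hq
    rw [gcd_two_odd hodd] at h1 h2
    have h3 := Nat.one_le_pow (n - 1) q (by omega)
    have hd : dimL (.oplus n) = n - 1 := by
      change (if n % 2 = 0 then n - 1 else n) = n - 1
      rw [if_pos hev]
    rw [hd]
    rcases h with ⟨h4, -⟩ | ⟨-, ⟨rfl, -⟩ | ⟨rfl, -⟩⟩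
    · omega
    · left; omega
    · right; omega
  | _ => exact ht.elim

theorem le_of_mul {a g b : ℕ} (h : a * g = b) (hb : 0 < b) : a ≤ b := by
  have hg : 1 ≤ g := by
    rcases Nat.eq_zero_or_pos g with h0 | h0
    · rw [h0, mul_zero] at h; omega
    · exact h0
  rw [← h]
  exact Nat.le_mul_of_pos_right _ hg

/-- **The size of the isolated numbers.** -/
theorem ttor_le {t : Fam} (ht : Classical t) {u i : ℕ} (hu : 2 ≤ u) (hr : 3 ≤ rk t) (h : top t i) :
    ttor t u i ≤ 2 * u ^ rk t := by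
  have hp1 : ∀ n : ℕ, 1 ≤ n → 2 ≤ u ^ n := fun n hn => hu.trans (Nat.le_self_pow (by omega) u)
  have hss : ∀ n : ℕ, 1 ≤ n → u ^ n = u * u ^ (n - 1) := fun n hn => by rw [← pow_succ']; congr 1; omega
  have hs1 : ∀ n : ℕ, 1 ≤ n → u ^ (n - 1) ≤ u ^ n := fun n hn => Nat.pow_le_pow_right (by omega) (by omega)
  have key : ∀ {a g b m : ℕ}, a * g = b → 0 < b → b ≤ 2 * u ^ m → a ≤ 2 * u ^ m := fun h1 h2 h3 => (le_of_mul h1 h2).trans h3
  -- the product
  have hprod : ∀ n : ℕ, 3 ≤ n → (u ^ (n - 1) + 1) * (u + 1) ≤ 2 * u ^ n := by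
    intro n hn
    have h1 := hss n (by omega)
    have h2 := hss (n - 1) (by omega)
    have h3 : u ≤ u ^ (n - 1 - 1) := Nat.le_self_pow (by omega) u
    rw [h1]
    nlinarith [Nat.mul_le_mul_left u h3]
  cases t with
  | psl n =>
    have hr' : 3 ≤ n := hr
    obtain ⟨h1, h2⟩ := val_psl (n := n) (q := u) (by omega) hu
    have a1 := hp1 n (by omega)
    have a2 := hp1 (n - 1) (by omega)
    have a3 := hs1 n (by omega)
    rcases h.2 with rfl | h4
    · exact key h1 (by omega) (by change _ ≤ 2 * u ^ i; omega)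
    · obtain rfl : i = n - 1 := by omega
      exact key h2 (by omega) (by change _ ≤ 2 * u ^ n; omega)
  | psu n =>
    have hr' : 3 ≤ n := hr
    obtain ⟨h1, h2⟩ := val_psu (n := n) (q := u) (by omega) hu
    have a1 := hp1 n (by omega)
    have a2 := hp1 (n - 1) (by omega)
    have a3 := hs1 n (by omega)
    rcases h.2 with rfl | h4
    · exact key h1 (by split_ifs <;> omega) (by change _ ≤ 2 * u ^ i; split_ifs <;> omega)
    · obtain rfl : i = n - 1 := by omega
      exact key h2 (by split_ifs <;> omega) (by change _ ≤ 2 * u ^ n; split_ifs <;> omega)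
  | psp n =>
    have hr' : 3 ≤ n := hr
    obtain ⟨h1, h2⟩ := val_psp (n := n) (q := u) (by omega) hu
    have a1 := hp1 n (by omega)
    rcases h with rfl | ⟨rfl, -⟩
    · exact key h1 (by omega) (by change _ ≤ 2 * u ^ n; omega)
    · exact key h2 (by omega) (by change _ ≤ 2 * u ^ i; omega)
  | oodd n =>
    have hr' : 3 ≤ n := hr
    obtain ⟨h1, h2⟩ := val_psp (n := n) (q := u) (by omega) hu
    have a1 := hp1 n (by omega)
    rcases h with rfl | ⟨rfl, -⟩
    · exact key h1 (by omega) (by change _ ≤ 2 * u ^ n; omega)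
    · exact key h2 (by omega) (by change _ ≤ 2 * u ^ i; omega)
  | oplus n =>
    have hr' : 3 ≤ n := hr
    have a1 := hp1 n (by omega)
    have a2 := hp1 (n - 1) (by omega)
    have a3 := hs1 n (by omega)
    rcases Nat.mod_two_eq_zero_or_one n with hev | hodd
    · obtain ⟨h1, h2⟩ := val_oplus_even (n := n) (q := u) (by omega) hev hu
      rcases h with ⟨-, h4⟩ | rfl | ⟨rfl, -⟩
      · omega
      · exact key h1 (by omega) (by change _ ≤ 2 * u ^ n; omega)
      · exact key h2 (by omega) (by change _ ≤ 2 * u ^ n; omega)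
    · obtain ⟨h1, h2⟩ := val_oplus_odd (n := n) (q := u) (by omega) hodd hu
      rcases h with ⟨rfl, -⟩ | rfl | ⟨-, h4⟩
      · exact key h1 (by omega) (by change _ ≤ 2 * u ^ i; omega)
      · exact key h2 (by positivity) (by change _ ≤ 2 * u ^ n; exact hprod n hr')
      · omega
  | ominus n =>
    have hr' : 3 ≤ n := hr
    obtain ⟨h1, h2, h3⟩ := val_ominus (n := n) (q := u) hr' hu
    have a1 := hp1 n (by omega)
    have a2 := hp1 (n - 1) (by omega)
    have a4 := hprod n hr'
    rcases h with rfl | rfl | ⟨rfl, -⟩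
    · exact key h1 (by omega) (by change _ ≤ 2 * u ^ n; omega)
    · exact key h2 (Nat.mul_pos (by omega) (by omega)) (le_trans (Nat.mul_le_mul_left _ (by omega)) a4)
    · exact key h3 (Nat.mul_pos (by omega) (by omega)) (le_trans (Nat.mul_le_mul_right _ (by omega)) a4)
  | _ => exact ht.elim

theorem dvd_two_cases {g : ℕ} (h : g ∣ 2) : g = 1 ∨ g = 2 := (Nat.dvd_prime Nat.prime_two).1 h

theorem dvd_three_cases {g : ℕ} (h : g ∣ 3) : g = 1 ∨ g = 3 := (Nat.dvd_prime Nat.prime_three).1 h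

theorem dvd_four_cases {g : ℕ} (h : g ∣ 4) : g = 1 ∨ g = 2 ∨ g = 4 := by
  have h1 := Nat.le_of_dvd (by norm_num) h
  have h2 : g = 0 ∨ g = 1 ∨ g = 2 ∨ g = 3 ∨ g = 4 := by omega
  rcases h2 with rfl | rfl | rfl | rfl | rfl
  · omega
  · exact Or.inl rfl
  · exact Or.inr (Or.inl rfl)
  · omega
  · exact Or.inr (Or.inr rfl)

/-- linear and unitary, `u = 2` -/
theorem lin_two {t : Fam} {i : ℕ} (hl : ∃ m, t = .psl m ∨ t = .psu m) (hr : 3 ≤ rk t) (h : top t i) :
    ∃ c k, (c = 1 ∨ c = 3 ∨ c = 9) ∧ (c * ttor t 2 i + 1 = 2 ^ k ∨ c * ttor t 2 i = 2 ^ k + 1) ∧ rk t ≤ k + 1 ∧ k ≤ rk t := by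
  have hp1 : ∀ n : ℕ, 1 ≤ 2 ^ n := fun n => Nat.one_le_two_pow
  obtain ⟨m, rfl | rfl⟩ := hl
  · have hr' : 3 ≤ m := hr
    obtain ⟨h1, h2⟩ := val_psl (n := m) (q := 2) (by omega) le_rfl
    norm_num at h1 h2
    rcases h.2 with rfl | h4
    · refine ⟨1, i, Or.inl rfl, Or.inl ?_, by change i ≤ _; omega, le_rfl⟩
      have := hp1 i
      omega
    · obtain rfl : i = m - 1 := by omega
      refine ⟨1, m - 1, Or.inl rfl, Or.inl ?_, by change m ≤ _; omega, by change _ ≤ m; omega⟩
      have := hp1 (m - 1)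
      omega
  · have hr' : 3 ≤ m := hr
    obtain ⟨h1, h2⟩ := val_psu (n := m) (q := 2) (by omega) le_rfl
    norm_num at h1 h2
    have hg := dvd_three_cases (Nat.gcd_dvd_right m 3)
    rcases h.2 with rfl | h4
    · have := hp1 i
      rcases hg with hg | hg
      · rw [hg] at h1
        refine ⟨3, i, by omega, ?_, by change i ≤ _; omega, le_rfl⟩
        split_ifs at h1 <;> omega
      · rw [hg] at h1
        refine ⟨9, i, by omega, ?_, by change i ≤ _; omega, le_rfl⟩
        split_ifs at h1 <;> omega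
    · obtain rfl : i = m - 1 := by omega
      have := hp1 (m - 1)
      rcases hg with hg | hg
      · rw [hg] at h2
        refine ⟨1, m - 1, by omega, ?_, by change m ≤ _; omega, by change _ ≤ m; omega⟩
        split_ifs at h2 <;> omega
      · rw [hg] at h2
        refine ⟨3, m - 1, by omega, ?_, by change m ≤ _; omega, by change _ ≤ m; omega⟩
        split_ifs at h2 <;> omega

/-- linear and unitary, `u = 3` -/
theorem lin_three {t : Fam} {i : ℕ} (hl : ∃ m, t = .psl m ∨ t = .psu m) (hr : 3 ≤ rk t) (h : top t i) :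
    ∃ c k, (c = 1 ∨ c = 2 ∨ c = 4 ∨ c = 8 ∨ c = 16) ∧ (c * ttor t 3 i + 1 = 3 ^ k ∨ c * ttor t 3 i = 3 ^ k + 1) ∧
      rk t ≤ k + 1 ∧ 2 * ttor t 3 i + 1 ≤ 3 ^ rk t := by
  have hp1 : ∀ n : ℕ, 1 ≤ 3 ^ n := fun n => Nat.one_le_pow _ _ (by norm_num)
  have hp9 : ∀ n : ℕ, 3 ≤ n → 3 ^ n = 3 * 3 ^ (n - 1) ∧ 9 ≤ 3 ^ (n - 1) := by
    intro n hn
    refine ⟨by rw [← pow_succ']; congr 1; omega, ?_⟩
    calc 9 = 3 ^ 2 := by norm_num
      _ ≤ _ := Nat.pow_le_pow_right (by norm_num) (by omega)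
  obtain ⟨m, rfl | rfl⟩ := hl
  · have hr' : 3 ≤ m := hr
    obtain ⟨h1, h2⟩ := val_psl (n := m) (q := 3) (by omega) (by norm_num)
    obtain ⟨h3, h5⟩ := hp9 m hr'
    norm_num at h1 h2
    have hg := dvd_two_cases (Nat.gcd_dvd_right m 2)
    rcases h.2 with rfl | h4
    · have := hp1 i
      rcases hg with hg | hg
      · rw [hg] at h1
        exact ⟨2, i, by omega, Or.inl (by omega), by change i ≤ _; omega, by change _ ≤ 3 ^ i; omega⟩
      · rw [hg] at h1
        exact ⟨4, i, by omega, Or.inl (by omega), by change i ≤ _; omega, by change _ ≤ 3 ^ i; omega⟩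
    · obtain rfl : i = m - 1 := by omega
      rcases hg with hg | hg
      · rw [hg] at h2
        exact ⟨1, m - 1, by omega, Or.inl (by omega), by change m ≤ _; omega, by change _ ≤ 3 ^ m; omega⟩
      · rw [hg] at h2
        exact ⟨2, m - 1, by omega, Or.inl (by omega), by change m ≤ _; omega, by change _ ≤ 3 ^ m; omega⟩
  · have hr' : 3 ≤ m := hr
    obtain ⟨h1, h2⟩ := val_psu (n := m) (q := 3) (by omega) (by norm_num)
    obtain ⟨h3, h5⟩ := hp9 m hr'
    norm_num at h1 h2
    have hg := dvd_four_cases (Nat.gcd_dvd_right m 4)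
    rcases h.2 with rfl | h4
    · have := hp1 i
      rcases hg with hg | hg | hg
      · rw [hg] at h1
        refine ⟨4, i, by omega, ?_, by change i ≤ _; omega, ?_⟩
        · split_ifs at h1 <;> omega
        · change _ ≤ 3 ^ i
          split_ifs at h1 <;> omega
      · rw [hg] at h1
        refine ⟨8, i, by omega, ?_, by change i ≤ _; omega, ?_⟩
        · split_ifs at h1 <;> omega
        · change _ ≤ 3 ^ i
          split_ifs at h1 <;> omega
      · rw [hg] at h1
        refine ⟨16, i, by omega, ?_, by change i ≤ _; omega, ?_⟩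
        · split_ifs at h1 <;> omega
        · change _ ≤ 3 ^ i
          split_ifs at h1 <;> omega
    · obtain rfl : i = m - 1 := by omega
      rcases hg with hg | hg | hg
      · rw [hg] at h2
        refine ⟨1, m - 1, by omega, ?_, by change m ≤ _; omega, ?_⟩
        · split_ifs at h2 <;> omega
        · change _ ≤ 3 ^ m
          split_ifs at h2 <;> omega
      · rw [hg] at h2
        refine ⟨2, m - 1, by omega, ?_, by change m ≤ _; omega, ?_⟩
        · split_ifs at h2 <;> omega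
        · change _ ≤ 3 ^ m
          split_ifs at h2 <;> omega
      · rw [hg] at h2
        refine ⟨4, m - 1, by omega, ?_, by change m ≤ _; omega, ?_⟩
        · split_ifs at h2 <;> omega
        · change _ ≤ 3 ^ m
          split_ifs at h2 <;> omega

universe u w

theorem rk_three {t' : Fam} {v f' : ℕ} (hb : BigS t') {S : Type u} [Group S] (hi : Fam.Is v f' S t') :
    3 ≤ rk t' := by
  obtain ⟨hc, h1, h2, h3, h4⟩ := hb
  cases t' with
  | psl n =>
    have hn : 2 ≤ n := hi.1
    have e1 : n ≠ 2 := fun e => h1 (by rw [e])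
    change 3 ≤ n
    omega
  | psu n => exact hi.1
  | psp n =>
    have hn : 2 ≤ n := hi.1
    have e2 : n ≠ 2 := fun e => h4 (by rw [e])
    change 3 ≤ n
    omega
  | oodd n => exact hi.1
  | oplus n => have hn : 4 ≤ n := hi.1; change 3 ≤ n; omega
  | ominus n => have hn : 4 ≤ n := hi.1; change 3 ≤ n; omega
  | _ => exact hc.elim

variable {t : Fam} {p f : ℕ} {L : Type w} [Group L] [Finite L] {G : Type u} [Group G] [Finite G]
variable {K : Subgroup G} [K.Normal] {S : Subgroup (G ⧸ K)} [S.Normal]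
variable {t' : Fam} {v f' : ℕ}

/-- **The core of SMALLU.** -/
theorem small_core (h : LS t p f L G) (hR : Red G K S) (hF : Frm G K S t' v f') (hS : BigS t') (hn : 5 ≤ rk t)
    (hII : FamII t) (hp2 : p ≠ 2) (hvp : v ≠ p) (hu : v ^ f' = 2 ∨ v ^ f' = 3) {i j i' H : ℕ} (hij : PairOK t i j)
    (hi' : top t' i') (hM : ttor t (p ^ f) i = H * ttor t' (v ^ f') i') (hH : H ∣ 8) (hH2 : v ^ f' = 2 → H = 1)
    (hlin : (∃ m, t' = .psl m ∨ t' = .psu m) → H = 1) : False := by
  obtain ⟨hq3, hqo⟩ := f_q h.prime hp2 h.fpos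
  have hf0 : f ≠ 0 := by have := h.fpos; omega
  -- `f' = 1`
  have hf1 : f' = 1 := by
    have hv2 := hF.prime.two_le
    have hf' := hF.f_ne
    by_contra hne
    have h1 : v ^ 2 ≤ v ^ f' := Nat.pow_le_pow_right (by omega) (by omega)
    have h2 : 2 ^ 2 ≤ v ^ 2 := Nat.pow_le_pow_left hv2 2
    omega
  have hvu : v ^ f' = v := by rw [hf1, pow_one]
  have hvq : ¬ v ^ f' ∣ p ^ f := by
    rw [hvu]
    intro hd
    exact hvp ((Nat.prime_dvd_prime_iff_eq hF.prime h.prime).1 (hF.prime.dvd_of_dvd_pow hd))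
  have hrk : 3 ≤ rk t' := rk_three hS hF.is
  have hpw := pow_two_ttor hII (by omega) (by omega) hqo hij
  rw [hM] at hpw
  set q := p ^ f with hq
  set uu := v ^ f' with huu
  have hk5 : 5 ≤ dimL t := by
    cases t with
    | psp n => exact hn
    | oodd n => exact hn
    | oplus n =>
      have hn' : 5 ≤ n := hn
      have hev : n % 2 = 0 := hII
      change 5 ≤ (if n % 2 = 0 then n - 1 else n)
      rw [if_pos hev]
      omega
    | _ => exact hII.elim
  have hko : dimL t % 2 = 1 := by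
    cases t with
    | psp n => exact hII
    | oodd n => exact hII
    | oplus n =>
      have hn' : 5 ≤ n := hn
      have hev : n % 2 = 0 := hII
      change (if n % 2 = 0 then n - 1 else n) % 2 = 1
      rw [if_pos hev]
      omega
    | _ => exact hII.elim
  -- small rank
  rcases Nat.lt_or_ge (rk t') 64 with hsm | hbig
  · exact small_rank hu hrk hsm hH hH2 hi' hk5 hko hq3 (by
      rcases hu with hu | hu <;> rw [hu] at hvq ⊢ <;> exact hvq) hpw
  -- counting
  obtain ⟨B, hB, hB1, hB2⟩ := exists_big hF.cla (show 14 ≤ rk t' by omega)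
  have hu2 : 2 ≤ uu := by omega
  have hP := ttor_le hF.cla hu2 hrk hi'
  have hH0 : H ≤ 8 := Nat.le_of_dvd (by norm_num) hH
  set P := ttor t' uu i' with hPdef
  set n := dimL t with hndef
  have hle : q ^ n ≤ 2 * (H * P) + 1 := by omega
  rcases hu with hu | hu
  · -- `u = 2`
    rw [hu] at hP
    have hH1 : H = 1 := hH2 hu
    rw [hH1, one_mul] at hle hpw
    obtain ⟨k, hk1, hk2⟩ := count h hR hF hS hn hq3 hII hu2 hf1 hB (b := 32) (by omega)
    rcases hB2 with hl | hB2
    · obtain ⟨c, e, hc, he, he1, he2⟩ := lin_two hl hrk hi'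
      rw [← hu, ← hPdef, hu] at he
      by_cases hq3' : q = 3
      · rw [hq3'] at hpw
        exact mod_three hc hk5 hko (by omega) he hpw
      · have h2e : 2 ^ e ≤ 2 ^ rk t' := Nat.pow_le_pow_right (by norm_num) he2
        have hc1 : 1 ≤ c := by omega
        have hPc : P ≤ c * P := Nat.le_mul_of_pos_left _ hc1
        have h4 : 4 ≤ 2 ^ rk t' := by
          calc 4 = 2 ^ 2 := by norm_num
            _ ≤ _ := Nat.pow_le_pow_right (by norm_num) (by omega)
        refine num_lin_two (q := q) (n := n) (m := rk t') (k := k) (by omega) hk5 hbig ?_ hk1 (by omega)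
        rw [pow_add]
        omega
    · have h4 : 4 ≤ 2 ^ rk t' := by
        calc 4 = 2 ^ 2 := by norm_num
          _ ≤ _ := Nat.pow_le_pow_right (by norm_num) (by omega)
      refine num_two (q := q) (n := n) (m := rk t') (k := k) hq3 hk5 hbig ?_ hk1 (by omega)
      rw [pow_add]
      omega
  · -- `u = 3`
    rw [hu] at hP
    have hq5 : q ≠ 3 := by
      intro h3
      rw [hu, h3] at hvq
      exact hvq dvd_rfl
    obtain ⟨k, hk1, hk2⟩ := count h hR hF hS hn hq3 hII hu2 hf1 hB (b := 27) (by omega)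
    rcases hB2 with hl | hB2
    · obtain ⟨c, e, hc, he, he1, he2⟩ := lin_three hl hrk hi'
      rw [← hu, ← hPdef, hu] at he
      rw [← hu, ← hPdef, hu] at he2
      have hH1 : H = 1 := hlin hl
      rw [hH1, one_mul] at hle hpw
      by_cases hq5' : q = 5
      · rw [hq5'] at hpw
        exact mod_five hc hk5 hko (by omega) he hpw
      · exact num_lin_three (q := q) (n := n) (m := rk t') (k := k) (by omega) hk5 hbig (by omega) hk1 (by omega)
    · have h4 : 27 ≤ 3 ^ rk t' := by
        calc 27 = 3 ^ 3 := by norm_num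
          _ ≤ _ := Nat.pow_le_pow_right (by norm_num) (by omega)
      have h5 : H * P ≤ 8 * (2 * 3 ^ rk t') := Nat.mul_le_mul hH0 hP
      refine num_three (q := q) (n := n) (m := rk t') (k := k) (by omega) hk5 hbig ?_ hk1 (by omega)
      rw [pow_add]
      omega

theorem fprime_one {v f' : ℕ} (hv : v.Prime) (hf' : f' ≠ 0) (hu : v ^ f' = 2 ∨ v ^ f' = 3) : f' = 1 := by
  have hv2 := hv.two_le
  by_contra hne
  have h1 : v ^ 2 ≤ v ^ f' := Nat.pow_le_pow_right (by omega) (by omega)
  have h2 : 2 ^ 2 ≤ v ^ 2 := Nat.pow_le_pow_left hv2 2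
  omega

end Cfsg.Agent.R2.Spec.SmallU
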